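import Mathlib
import Cfsg.Agent.H25.CharInd
import Cfsg.Agent.H25.CharIntegral
import Cfsg.Agent.H25.IndRep
import Cfsg.Agent.H26.CharFS
import Cfsg.Agent.H38.Linear
import Cfsg.Agent.H44.Inflation

/-! Parity of linear constituents on a 2-subgroup: multiplicities and basic facts. -/

set_option autoImplicit false

namespace Cfsg.Agent.H38.RealOdd

open scoped ComplexConjugate

variable {G : Type*} [Group G] [Finite G]

/-- Multiplicity of `θ` in the restriction of `χ` to `H`. -/
noncomputable def mult (H : Subgroup G) (χ : G → ℂ) (θ : H → ℂ) : ℂ :=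
  @Cfsg.classInner H _ (Fintype.ofFinite H) (fun h => χ h) θ

theorem mult_eq (H : Subgroup G) [inst : Fintype H] (χ : G → ℂ) (θ : H → ℂ) :
    mult H χ θ = Cfsg.classInner (fun h : H => χ h) θ := by
  unfold mult
  rw [Subsingleton.elim (Fintype.ofFinite H) inst]

/-- The character of degree one given by a homomorphism. -/
noncomputable def linFun {H : Type*} [Group H] (f : H →* ℂˣ) : H → ℂ := fun x => (f x : ℂ)

omit [Finite G] in
theorem linFun_one {H : Type*} [Group H] (f : H →* ℂˣ) : linFun f 1 = 1 := by simp [linFun]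

/-- The linear character of a homomorphism, as an irreducible character. -/
noncomputable def linIrr {H : Type*} [Group H] [Finite H] (f : H →* ℂˣ) : Cfsg.IrrCharacter H :=
  ⟨linFun f, H26.isIrrCharacter_hom f⟩

theorem linIrr_injective {H : Type*} [Group H] [Finite H] {f f' : H →* ℂˣ}
    (h : linIrr f = linIrr f') : f = f' :=
  MonoidHom.ext fun x => Units.ext (congrFun (congrArg Subtype.val h) x)

/-- A homomorphism to the nonzero complex numbers with values of square one. -/
def IsRealHom {H : Type*} [Group H] (f : H →* ℂˣ) : Prop := ∀ x, f x ^ 2 = 1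

theorem linFun_im_eq_zero {H : Type*} [Group H] {f : H →* ℂˣ} (hf : IsRealHom f) (x : H) :
    (linFun f x).im = 0 := by
  have h : (f x : ℂ) * (f x : ℂ) = 1 := by rw [← sq, ← Units.val_pow_eq_pow_val, hf x, Units.val_one]
  rcases mul_self_eq_one_iff.mp h with h1 | h1 <;> simp [linFun, h1]

theorem isRealHom_of_im {H : Type*} [Group H] [Finite H] {f : H →* ℂˣ}
    (hf : ∀ x, ((f x : ℂ)).im = 0) : IsRealHom f := by
  intro x
  have hn : (f x : ℂ) ^ Nat.card H = 1 := by
    rw [← Units.val_pow_eq_pow_val, ← map_pow, pow_card_eq_one', map_one, Units.val_one]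
  have h1 : ‖(f x : ℂ)‖ = 1 := Complex.norm_eq_one_of_pow_eq_one hn Nat.card_pos.ne'
  have hre : (f x : ℂ) = ((f x : ℂ).re : ℂ) := Complex.ext (by simp) (by simp [hf x])
  apply Units.ext
  rw [Units.val_pow_eq_pow_val, Units.val_one, hre, ← Complex.ofReal_pow]
  rw [hre, Complex.norm_real, Real.norm_eq_abs] at h1
  rw [← sq_abs, h1, one_pow, Complex.ofReal_one]

theorem classInner_conj_left {H : Type*} [Group H] [Fintype H] (a b : H → ℂ) :
    conj (Cfsg.classInner a b) = Cfsg.classInner (fun x => conj (a x)) (fun x => conj (b x)) := by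
  simp [Cfsg.classInner, map_sum, map_mul, map_inv₀]

/-- A character of odd degree has an odd-degree constituent of odd multiplicity; if the character is
real the constituent can be taken real. -/
theorem exists_odd_constituent {H : Type*} [Group H] [Fintype H] {θ : H → ℂ}
    (hθ : Cfsg.IsCharacter H θ) {n : ℕ} (hn : Odd n) (h1 : θ 1 = n) :
    (∃ ψ : Cfsg.IrrCharacter H, Odd (Cfsg.charDegree (ψ : H → ℂ)) ∧
      ∃ m : ℕ, Odd m ∧ Cfsg.classInner θ ψ.1 = m) ∧
    ((∀ x, (θ x).im = 0) → ∃ ψ : Cfsg.IrrCharacter H, (∀ x, (ψ.1 x).im = 0) ∧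
      Odd (Cfsg.charDegree (ψ : H → ℂ)) ∧ ∃ m : ℕ, Odd m ∧ Cfsg.classInner θ ψ.1 = m) := by
  classical
  obtain ⟨m, hm, hsum⟩ := H26.exists_nat_coeffs hθ
  have hdeg : n = ∑ ψ : Cfsg.IrrCharacter H, m ψ * Cfsg.charDegree (ψ : H → ℂ) := by
    have := congrFun hsum 1
    simp only [Finset.sum_apply, Pi.smul_apply, smul_eq_mul, ← H44.cast_charDegree] at this
    rw [h1] at this
    exact_mod_cast this
  set w : Cfsg.IrrCharacter H → ZMod 2 := fun ψ => ((m ψ * Cfsg.charDegree (ψ : H → ℂ) : ℕ) : ZMod 2)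
    with hw
  have hodd : ∑ ψ, w ψ = 1 := by
    rw [hw, ← Nat.cast_sum, ← hdeg]
    exact ZMod.natCast_eq_one_iff_odd.mpr hn
  have hget : ∀ ψ, w ψ ≠ 0 → Odd (Cfsg.charDegree (ψ : H → ℂ)) ∧
      ∃ k : ℕ, Odd k ∧ Cfsg.classInner θ ψ.1 = k := by
    intro ψ h
    have : Odd (m ψ * Cfsg.charDegree (ψ : H → ℂ)) := by
      by_contra hne
      exact h (ZMod.natCast_eq_zero_iff_even.mpr (Nat.not_odd_iff_even.mp hne))
    obtain ⟨a, b⟩ := Nat.odd_mul.mp this
    exact ⟨b, m ψ, a, hm ψ⟩
  refine ⟨?_, fun hreal => ?_⟩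
  · obtain ⟨ψ, -, hψ⟩ := Finset.exists_ne_zero_of_sum_ne_zero (hodd ▸ one_ne_zero)
    exact ⟨ψ, hget ψ hψ⟩
  · have hinv : ∀ ψ, w (H26.conjIrr ψ) = w ψ := by
      intro ψ
      have hd : Cfsg.charDegree (H26.conjIrr ψ : H → ℂ) = Cfsg.charDegree (ψ : H → ℂ) := by
        have : ((Cfsg.charDegree (H26.conjIrr ψ : H → ℂ) : ℕ) : ℂ) =
            (Cfsg.charDegree (ψ : H → ℂ) : ℕ) := by
          rw [H44.cast_charDegree, H26.conjIrr_val]
          conv_rhs => rw [H44.cast_charDegree]
          obtain ⟨d, -, hd⟩ := H44.exists_degree ψ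
          rw [hd, Complex.conj_natCast]
        exact_mod_cast this
      have hmc : m (H26.conjIrr ψ) = m ψ := by
        have : (m (H26.conjIrr ψ) : ℂ) = m ψ := by
          rw [← hm, ← hm, ← Complex.conj_conj (Cfsg.classInner θ (H26.conjIrr ψ).1),
            classInner_conj_left]
          conv_rhs => rw [show Cfsg.classInner θ ψ.1 = conj (m ψ : ℂ) by
            rw [Complex.conj_natCast, hm]]
          have e1 : (fun x => conj (θ x)) = θ := funext fun x =>
            Complex.conj_eq_iff_im.mpr (hreal x)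
          have e2 : (fun x => conj ((H26.conjIrr ψ).1 x)) = ψ.1 := funext fun x => by
            rw [H26.conjIrr_val, Complex.conj_conj]
          rw [e1, e2, hm]
        exact_mod_cast this
      simp only [hw, hd, hmc]
    have hfix : ∑ ψ ∈ Finset.univ.filter (fun ψ => H26.conjIrr ψ = ψ), w ψ = 1 := by
      have h0 : ∑ ψ ∈ Finset.univ.filter (fun ψ => ¬ H26.conjIrr ψ = ψ), w ψ = 0 := by
        refine Finset.sum_involution (fun ψ _ => H26.conjIrr ψ)
          (fun ψ _ => by rw [hinv]; exact CharTwo.add_self_eq_zero _)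
          (fun ψ hψ _ => (Finset.mem_filter.mp hψ).2)
          (fun ψ hψ => Finset.mem_filter.mpr ⟨Finset.mem_univ _, ?_⟩)
          (fun ψ _ => H26.conjIrr_conjIrr ψ)
        intro h
        rw [H26.conjIrr_conjIrr] at h
        exact (Finset.mem_filter.mp hψ).2 h.symm
      rw [← hodd, ← Finset.sum_filter_add_sum_filter_not Finset.univ (fun ψ => H26.conjIrr ψ = ψ),
        h0, add_zero]
    obtain ⟨ψ, hψ, hψ0⟩ := Finset.exists_ne_zero_of_sum_ne_zero (hfix ▸ one_ne_zero)
    exact ⟨ψ, (H26.conjIrr_eq_self_iff ψ).mp (Finset.mem_filter.mp hψ).2, hget ψ hψ0⟩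

/-- An odd-degree irreducible character of a 2-group is linear. -/
theorem exists_hom_of_odd {H : Type*} [Group H] [Finite H] (hH : IsPGroup 2 H)
    (ψ : Cfsg.IrrCharacter H) (hodd : Odd (Cfsg.charDegree (ψ : H → ℂ))) :
    ∃ f : H →* ℂˣ, linIrr f = ψ := by
  haveI := Fintype.ofFinite H
  have hdvd : Cfsg.charDegree (ψ : H → ℂ) ∣ Nat.card H := by
    obtain ⟨n, ρ, hρ, e⟩ := ψ.2
    haveI := hρ
    have h1 := H25.finrank_dvd_card ρ
    have h2 : ((Cfsg.charDegree (ψ : H → ℂ) : ℕ) : ℂ) = (Module.finrank ℂ (Fin n → ℂ) : ℕ) := by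
      rw [H44.cast_charDegree, ← e, Representation.char_one]
    rw [Nat.cast_inj.mp h2]
    exact h1
  obtain ⟨k, hk⟩ := IsPGroup.iff_card.mp hH
  rw [hk] at hdvd
  obtain ⟨j, -, hj⟩ := (Nat.dvd_prime_pow Nat.prime_two).mp hdvd
  rcases Nat.eq_zero_or_pos j with rfl | hj0
  · have h1 : ψ.1 1 = 1 := by rw [← H44.cast_charDegree, hj]; simp
    obtain ⟨f, hf⟩ := exists_hom_of_linear (H26.isCharacter_of_irr ψ.2) h1
    exact ⟨f, Subtype.ext hf.symm⟩
  · rw [hj] at hodd
    exact absurd hodd (Nat.not_odd_iff_even.mpr (Nat.even_pow.mpr ⟨even_two, hj0.ne'⟩))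

/-- If `θ` is a constituent of `χ_H`, then any constituent of `θ_K` is one of `χ_K`. -/
theorem classInner_restrict_ne_zero {A B : Type*} [Group A] [Fintype A] [Group B] [Fintype B]
    (j : B →* A) {χ : A → ℂ} (hχ : Cfsg.IsCharacter A χ) (θ : Cfsg.IrrCharacter A)
    (φ : Cfsg.IrrCharacter B) (h1 : Cfsg.classInner χ θ.1 ≠ 0)
    (h2 : Cfsg.classInner (fun b => θ.1 (j b)) φ.1 ≠ 0) :
    Cfsg.classInner (fun b => χ (j b)) φ.1 ≠ 0 := by
  classical
  obtain ⟨c, hc, hsum⟩ := H26.exists_nat_coeffs hχ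
  choose d hd using fun ψ : Cfsg.IrrCharacter A =>
    H26.exists_nat_classInner_irr (H26.isCharacter_comp (H26.isCharacter_of_irr ψ.2) j) φ
  simp only [Function.comp_def] at hd
  have key : Cfsg.classInner (fun b => χ (j b)) φ.1 = ((∑ ψ, c ψ * d ψ : ℕ) : ℂ) := by
    have e : (fun b => χ (j b)) = ∑ ψ, (c ψ : ℂ) • (fun b => ψ.1 (j b)) := by
      funext b
      rw [hsum]
      simp
    rw [e]
    simp only [Cfsg.classInner, Finset.sum_apply, Pi.smul_apply, smul_eq_mul, Finset.sum_mul]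
    rw [Finset.sum_comm, Finset.mul_sum]
    push_cast
    refine Finset.sum_congr rfl fun ψ _ => ?_
    rw [← hd ψ]
    simp only [Cfsg.classInner, Finset.mul_sum]
    exact Finset.sum_congr rfl fun b _ => by ring
  rw [key, Nat.cast_ne_zero]
  refine fun h0 => ?_
  have := Finset.sum_eq_zero_iff.mp h0 θ (Finset.mem_univ _)
  rcases mul_eq_zero.mp this with h | h
  · exact h1 (by rw [hc θ, h, Nat.cast_zero])
  · exact h2 (by rw [hd θ, h, Nat.cast_zero])

/-- Averages are unchanged by surjective homomorphisms. -/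
theorem classInner_comp_surjective {A B : Type*} [Group A] [Fintype A] [Group B] [Fintype B]
    (π : A →* B) (hπ : Function.Surjective π) (a b : B → ℂ) :
    Cfsg.classInner (fun x => a (π x)) (fun x => b (π x)) = Cfsg.classInner a b := by
  classical
  simp only [Cfsg.classInner]
  set F : B → ℂ := fun y => a y * conj (b y) with hF
  show (Nat.card A : ℂ)⁻¹ * ∑ x, F (π x) = (Nat.card B : ℂ)⁻¹ * ∑ y, F y
  have hker : ∀ y, (Finset.univ.filter fun x => π x = y).card = Nat.card π.ker := by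
    intro y
    rw [← Nat.card_congr (MonoidHom.fiberEquivKerOfSurjective hπ y)]
    simp [Nat.card_eq_fintype_card, Fintype.card_subtype]
  have hsum : ∑ x, F (π x) = (Nat.card π.ker : ℂ) * ∑ y, F y := by
    rw [← Finset.sum_fiberwise Finset.univ π (fun x => F (π x)), Finset.mul_sum]
    refine Finset.sum_congr rfl fun y _ => ?_
    rw [Finset.sum_congr rfl (fun x hx => by rw [(Finset.mem_filter.mp hx).2]),
      Finset.sum_const, hker, nsmul_eq_mul]
  have hcard : Nat.card A = Nat.card B * Nat.card π.ker := by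
    rw [← Nat.card_congr (QuotientGroup.quotientKerEquivOfSurjective π hπ).toEquiv,
      ← Subgroup.card_eq_card_quotient_mul_card_subgroup]
  rw [hsum, hcard, Nat.cast_mul, mul_inv]
  have : (Nat.card π.ker : ℂ) ≠ 0 := Nat.cast_ne_zero.mpr Nat.card_pos.ne'
  field_simp

end Cfsg.Agent.H38.RealOdd
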